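import Cfsg.Agent.H64.HeFi24.Assemble
import Cfsg.Agent.H87.Fi24Out.Base

/-!
He inside presented Fi24 from a checked table model.
-/

set_option autoImplicit false

namespace Cfsg.Agent.H64.HeFi24

open Cfsg.Agent.H87.Fi24Out (Model op wV wk Lt)
open Cfsg.Agent.H45 (evalW evalW_cons evalW_nil force force_eq)

theorem op_reverse_eq (u : List ℕ) : op u.reverse = evalW fe u := by
  induction u with
  | nil => simp [op, evalW_nil]
  | cons l u ih =>
    rw [List.reverse_cons, H87.Fi24Out.op_append, ih, evalW_cons]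
    simp [op, fe, H87.Fi24Out.e, H45.eOf, H87.Fi24Out.gl, letters]

/-- the word fixes the point of letter `x` -/
noncomputable def fixAt (T : ℕ → ℕ → ℕ) (u : List ℕ) (x : ℕ) : Bool :=
  wk T (toLetter x).reverse 0 fun p => force p fun p' => wk T u.reverse p' fun q => Nat.beq q p'

/-- the word fixes the twelve points -/
noncomputable def fixTwelve (T : ℕ → ℕ → ℕ) (u : List ℕ) : Bool :=
  u.all (fun l => Nat.blt l 12) && (List.range 12).all fun x => fixAt T u x

/-- the word of the letter `a` of He moves the point `q` -/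
noncomputable def movesAt (T : ℕ → ℕ → ℕ) (q : ℕ) : Bool :=
  wk T (heWord .a).reverse q fun r => !Nat.beq r q

theorem toLetter_lt : ∀ x < 12, ∀ l ∈ (toLetter x).reverse, l < 12 := by decide

theorem heWord_a_lt : ∀ l ∈ (heWord .a).reverse, l < 12 := by decide

theorem exists_he_model (M : Model) (h : ∀ u ∈ checkWords, fixTwelve M.T u = true) {q : ℕ}
    (hq : q < M.n) (hm : movesAt M.T q = true) :
    ∃ H : Subgroup Cfsg.Spor.Fi24, H ≤ commutator Cfsg.Spor.Fi24 ∧ Cfsg.Spor.IsoHe ↥H ∧
      Cfsg.IsHe ↥H := by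
  refine exists_he M.φ M.inj ⟨0, M.npos⟩ M.trans (fun g hg => (M.stab g).mp hg)
    (fun u hu x hx => ?_) ⟨⟨q, hq⟩, fun heq => ?_⟩
  · have h1 := h u hu
    simp only [fixTwelve, Bool.and_eq_true, List.all_eq_true, List.mem_range] at h1
    have h2 := h1.2 x hx
    simp only [fixAt, H87.Fi24Out.wk_eq, force_eq, Nat.beq_eq] at h2
    have hu' : Lt u.reverse := fun l hl => Nat.blt_eq.mp (h1.1 l (List.mem_reverse.mp hl))
    apply Fin.ext
    rw [← op_reverse_eq, ← op_reverse_eq, M.op_walk hu', M.op_walk (toLetter_lt x hx)]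
    exact h2
  · simp only [movesAt, H87.Fi24Out.wk_eq, Bool.not_eq_true', ← Bool.not_eq_true, Nat.beq_eq] at hm
    apply hm
    have := congrArg Fin.val heq
    rw [← op_reverse_eq, M.op_walk heWord_a_lt] at this
    exact this

end Cfsg.Agent.H64.HeFi24
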